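import Cfsg.Agent.Lib.Fi22Core20.Model

/-!
# Fischer's theorem, node F22: the line through two points of the unitary space

A point of `U6(2)` commuting with all points commuting with two non-commuting points lies on their line.

Owner: helper15.
-/

set_option autoImplicit false
set_option maxRecDepth 20000
set_option linter.style.haveILetI false
set_option linter.unusedSectionVars false

namespace Cfsg.Agent.Lib.FischerThm.F22

open Cfsg.Agent.Lib.FischerMTypes.Basic Cfsg.Agent.Lib.FischerMTypes.Primitive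
  Cfsg.Agent.Lib.FischerMTypes.PointModel
open Cfsg.Agent.Lib.Fi22Core20 (Iso1 iso_of tr J1_eq_zero_comm iso_smul)
open Cfsg.Agent.Lib.FischerUniq91.Coord (V unit M1 Coord exists_of_hyp)
open Cfsg.Agent.Lib.FischerUniq91.Checks (J1 J_M1)
open Cfsg.Agent.Lib.G24 (K4)

theorem K4_pairs : ∀ a b : K4, a + b = 0 → a + K4.v * b = 0 → a = 0 ∧ b = 0 := by decide +kernel

theorem K4_line : ∀ a b : K4, a * (b * b) + b * (a * a) = 0 → a = 0 ∨ b = 0 ∨ a = b := by decide +kernel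

/-- isotropic vectors orthogonal to the hyperbolic pair -/
def mid (i j : Fin 6) (c : K4) : V := fun k => if k = i then 1 else if k = j then c else 0

/-- the middle coordinates vanish on a vector orthogonal to the test vectors -/
theorem mid_zero {v : V}
    (h : ∀ w, Iso1 w → J1 (unit 0) w = 0 → J1 (unit 5) w = 0 → J1 v w = 0) :
    v 1 = 0 ∧ v 2 = 0 ∧ v 3 = 0 ∧ v 4 = 0 := by
  have hw : ∀ c : K4, c = 1 ∨ c = K4.w → ∀ p : Fin 6 × Fin 6, p = (1, 2) ∨ p = (3, 4) →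
      Iso1 (mid p.1 p.2 c) ∧ J1 (unit 0) (mid p.1 p.2 c) = 0 ∧ J1 (unit 5) (mid p.1 p.2 c) = 0 := by
    rintro c (rfl | rfl) p (rfl | rfl) <;> decide +kernel
  have h12 := hw 1 (Or.inl rfl) (1, 2) (Or.inl rfl)
  have h12' := hw K4.w (Or.inr rfl) (1, 2) (Or.inl rfl)
  have h34 := hw 1 (Or.inl rfl) (3, 4) (Or.inr rfl)
  have h34' := hw K4.w (Or.inr rfl) (3, 4) (Or.inr rfl)
  have e1 := h _ h12.1 h12.2.1 h12.2.2
  have e2 := h _ h12'.1 h12'.2.1 h12'.2.2
  have e3 := h _ h34.1 h34.2.1 h34.2.2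
  have e4 := h _ h34'.1 h34'.2.1 h34'.2.2
  have hww : (K4.w * K4.w : K4) = K4.v := by decide +kernel
  simp [J1, mid, hww] at e1 e2 e3 e4
  obtain ⟨a1, a2⟩ := K4_pairs (v 1) (v 2) e1 (by rw [← e2]; ring)
  obtain ⟨a3, a4⟩ := K4_pairs (v 3) (v 4) e3 (by rw [← e4]; ring)
  exact ⟨a1, a2, a3, a4⟩

variable {G : Type*} [Group G] [Finite G] {D : Set G} {F : Type} [Field F] [Fintype F] {a : G}

/-- the line through two non-commuting points -/
theorem line (C : Ctx D a F) {b c x : G} (hb : b ∈ perp D a) (hc : c ∈ perp D a) (hbc : ¬ Commute b c)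
    (hx : x ∈ perp D a) (h : ∀ w ∈ perp D a, Commute b w → Commute c w → Commute x w) :
    x = b ∨ x = c ∨ x = b * c * b := by
  obtain ⟨e, he, he0, rfl⟩ := C.exists_pt hb
  obtain ⟨f₀, hf₀, hf₀0, rfl⟩ := C.exists_pt hc
  have hne : Cfsg.hermForm 6 F 2 e f₀ ≠ 0 := fun h0 => hbc ((C.pt_comm he he0 hf₀ hf₀0).2 h0)
  obtain ⟨k, hk, hk1⟩ : ∃ k : F, k ≠ 0 ∧ Cfsg.hermForm 6 F 2 e (k • f₀) = 1 := by
    refine ⟨((Cfsg.hermForm 6 F 2 e f₀)⁻¹) ^ 2, pow_ne_zero _ (inv_ne_zero hne), ?_⟩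
    rw [Cfsg.Agent.Lib.Unitary.herm_smul_right, FischerUniq91.Coord.conj_sq C, inv_mul_cancel₀ hne]
  have hf : Cfsg.hermForm 6 F 2 (k • f₀) (k • f₀) = 0 := by
    simp [Cfsg.Agent.Lib.Unitary.herm_smul_left, Cfsg.Agent.Lib.Unitary.herm_smul_right, hf₀]
  rw [← C.pt_smul hf₀ hf₀0 hk] at hbc h ⊢
  obtain ⟨K, hK0, hK5⟩ := exists_of_hyp C (e := e) (f := k • f₀) ⟨he, hf, hk1⟩
  have hL : ∀ i, K.L (unit i) = K.B i := fun i => by
    simp [Coord.L, unit]
  have hP0 : K.P (unit 0) = C.pt e := by rw [Coord.P, hL, hK0]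
  have hP5 : K.P (unit 5) = C.pt (k • f₀) := by rw [Coord.P, hL, hK5]
  have i0 : Iso1 (unit 0) := by decide +kernel
  have i5 : Iso1 (unit 5) := by decide +kernel
  obtain ⟨v, hv, rfl⟩ := K.exists_P hx
  have hv' : Iso1 v := Fi22Core20.iso_to hv
  rw [← hP0, ← hP5] at hbc h ⊢
  obtain ⟨h1, h2, h3, h4⟩ := mid_zero (v := v) fun w hw w0 w5 => by
    have := (K.P_comm hv (iso_of hw)).1 (h _ (K.P_mem (iso_of hw))
      ((K.P_comm (iso_of i0) (iso_of hw)).2 (by rw [J_M1]; exact w0))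
      ((K.P_comm (iso_of i5) (iso_of hw)).2 (by rw [J_M1]; exact w5)))
    rwa [J_M1] at this
  have hform := hv'.1
  simp only [J1, h1, h2, h3, h4, mul_zero, add_zero] at hform
  rcases K4_line (v 0) (v 5) hform with e0 | e5 | e05
  · refine Or.inr (Or.inl ((K.P_eq hv (iso_of i5)).2 ⟨(v 5)⁻¹, ?_, ?_⟩))
    · refine inv_ne_zero fun h5 => hv'.2 ?_
      funext j; fin_cases j <;> assumption
    · have h5 : v 5 ≠ 0 := fun h5 => hv'.2 (by funext j; fin_cases j <;> assumption)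
      funext j; fin_cases j <;> simp [unit, *]
  · refine Or.inl ((K.P_eq hv (iso_of i0)).2 ⟨(v 0)⁻¹, ?_, ?_⟩)
    · refine inv_ne_zero fun h0 => hv'.2 ?_
      funext j; fin_cases j <;> assumption
    · have h0 : v 0 ≠ 0 := fun h0 => hv'.2 (by funext j; fin_cases j <;> assumption)
      funext j; fin_cases j <;> simp [unit, *]
  · refine Or.inr (Or.inr ?_)
    have h5 : v 5 ≠ 0 := fun h5 => hv'.2 (by
      funext j; fin_cases j
      all_goals first | assumption | exact e05.trans h5)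
    have ht : Iso1 (tr (unit 0) (unit 5)) := by decide +kernel
    rw [K.P_conj (iso_of i0) (iso_of i5)]
    rw [show FischerUniq91.Coord.tvI M1 (unit 0) (unit 5) = tr (unit 0) (unit 5) from funext fun n => by
      simp [tr, FischerUniq91.Coord.tvI, J_M1]]
    refine (K.P_eq hv (iso_of ht)).2 ⟨(v 5)⁻¹, inv_ne_zero h5, ?_⟩
    funext j
    fin_cases j <;> simp [tr, unit, J1, *]

end Cfsg.Agent.Lib.FischerThm.F22
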