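import Cfsg.Agent.Lib.FischerThm.F22.Line
import Cfsg.Agent.Lib.FischerThm.Local
import Cfsg.Agent.Lib.Fi22Core20.Main
import Cfsg.Agent.Lib.FischerExist27.Transport

/-!
# Fischer's theorem, node F22: a local group `U6(2)` gives type M(22)

A chart at every member from the isomorphism; one common neighbour of one far pair gives one of each;
the kernel at a member is trivial by maximality of the subgroup of its commuting members.

Owner: helper15.
-/

set_option autoImplicit false
set_option linter.style.haveILetI false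

namespace Cfsg.Agent.Lib.FischerThm

open Cfsg Cfsg.Agent.Lib.FischerMTypes.Primitive Cfsg.Agent.Lib.FischerMTypes.PointModel
open Cfsg.Agent.Lib.Fi22Core20 (Host Kernel comp chartOf)
open Cfsg.Agent.Lib.FischerUniq91.Checks (e0)

universe u

variable {G : Type u} [Group G] [Finite G] {D : Set G}

namespace F22

/-- the point model at a member from the local group -/
theorem exists_ctx (hP : Prim D) {d : G} (hd : d ∈ D) (hU : IsUClass (perpClass D d) 6) :
    ∃ (F : Type) (_ : Field F) (_ : Fintype F), ∀ a ∈ D, Nonempty (Ctx D a F) := by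
  obtain ⟨F, iF, iF', hF, e, -⟩ := hU
  refine ⟨F, iF, iF', fun a ha => ?_⟩
  obtain ⟨g, rfl⟩ := hP.hprim.1 d hd a ha
  let m := QuotientGroup.mk' (Subgroup.center (Cfsg.SU 6 F 2))
  let j := e.symm.trans (hP.perpEquiv g d)
  refine ⟨⟨hP.hD, hP.subsetEq, ha, hF, j.toMonoidHom.comp m,
    j.surjective.comp (QuotientGroup.mk'_surjective _), fun x hx => ?_⟩⟩
  have h1 : m x = 1 := j.injective (by rw [map_one]; exact hx)
  exact (QuotientGroup.eq_one_iff x).1 h1

/-- the setting at a member -/
theorem exists_host (hP : Prim D) {F : Type} [Field F] [Fintype F] {q : G} (C : Ctx D q F) :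
    Nonempty (Host D q) := by
  obtain ⟨e, he, he0⟩ := C.exists_iso_ne_zero
  obtain ⟨f, hef⟩ := Cfsg.Agent.Lib.Unitary.exists_hyp C.hF he0 he
  obtain ⟨K, -⟩ := FischerUniq91.Coord.exists_of_hyp C hef
  exact ⟨⟨C.ha, hP.hD.1.1, hP.hD.2.1, fun x hx => hP.hprim.1 q C.ha x hx, chartOf K⟩⟩

/-- every far pair has a common neighbour -/
theorem common (hP : Prim D) {d : G} (hd : d ∈ D) (H : Host D d) {a c : G} (ha : a ∈ D) (hc : c ∈ far D a) :
    (perp₂ D a c).Nonempty := by
  obtain ⟨p, x, hx, hdx, hp⟩ := H.exists_off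
  obtain ⟨g, rfl, rfl⟩ := hP.orb_far hd ⟨hx.1, hdx⟩ ha hc
  rw [← hP.perp₂_image]
  exact ⟨_, p, hp, rfl⟩

/-- only `1` and `b` centralise `b` and its perp set -/
theorem kernel (hP : Prim D) {F : Type} [Field F] [Fintype F] (hctx : ∀ a ∈ D, Nonempty (Ctx D a F)) {b : G}
    (hb : b ∈ D) (H : Host D b) : Kernel D b := by
  obtain ⟨p, c, hc, hbc, hp⟩ := H.exists_off
  have hcD : c ∈ D := hc.1
  -- an element fixing a far member as well is central
  have fix : ∀ h : G, Commute h b → (∀ x ∈ perp D b, Commute h x) → Commute h c → h = 1 := by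
    intro h hhb hhp hhc
    set S : Set G := {y : G | y ∈ D ∧ Commute b y} ∪ {c}
    set J : Subgroup G := Subgroup.closure S
    have hJ : Cfsg.IsDSubgroup D J := by
      refine le_antisymm ((Subgroup.closure_le _).2 fun x hx => hx.2) ?_
      show Subgroup.closure S ≤ _
      refine Subgroup.closure_mono fun x hx => ⟨?_, Subgroup.subset_closure hx⟩
      rcases hx with hx | rfl
      exacts [hx.1, hcD]
    have htop : J = ⊤ := by
      refine (ThreeTranspositions.closure_commuting_maximal hP.cls hP.hprim ?_ hb hJ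
        (Subgroup.closure_mono Set.subset_union_left)).resolve_left fun e => hbc ?_
      · obtain ⟨x, hx, y, hy, hne, hco⟩ := hP.hw
        exact ⟨x, hx, y, hy, Ne.symm hne, hco⟩
      · have hm : c ∈ Subgroup.closure {y : G | y ∈ D ∧ Commute b y} :=
          e ▸ Subgroup.subset_closure (Or.inr rfl)
        exact FischerMTypes.Levels.commute_closure (u := b) (fun s hs => hs.2) c hm
    have hcen : h ∈ Subgroup.center G := Subgroup.mem_center_iff.2 fun g => by
      refine (FischerMTypes.Levels.commute_closure (u := h) ?_ g (htop ▸ Subgroup.mem_top g)).eq.symm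
      rintro s (⟨hs, hbs⟩ | rfl)
      · by_cases hsb : s = b
        · exact hsb ▸ hhb
        · exact hhp s ⟨hs, hsb, hbs⟩
      · exact hhc
    rwa [hP.hZ, Subgroup.mem_bot] at hcen
  intro g hgb hgp
  have hbp : b ∈ perp D p := ⟨hb, Ne.symm hp.1.2.1, hp.1.2.2.symm⟩
  have hcp : c ∈ perp D p := ⟨hcD, Ne.symm hp.2.2.1, hp.2.2.2.symm⟩
  obtain ⟨C⟩ := hctx p hp.1.1
  have hgp' : Commute g p := hgp p hp.1
  have hx : g * c * g⁻¹ ∈ perp D p := by
    have := (conj_mem_perp_iff hP.hD g p c).2 hcp
    rwa [hgp'.eq, mul_inv_cancel_right] at this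
  have hb2 : b * b = 1 := hP.sq hb
  rcases line C hbp hcp hbc hx fun w hw hbw hcw => by
      have hwb : w ≠ b := fun e => hbc (e ▸ hcw).symm
      have := (FischerMTypes.Basic.commute_conj_iff g c w).2 hcw
      simp only [MulAut.conj_apply] at this
      rwa [(hgp w ⟨hw.1, hwb, hbw⟩).eq, mul_inv_cancel_right] at this with e | e | e
  · refine absurd ?_ hbc
    have : c = b := by
      calc c = g⁻¹ * (g * c * g⁻¹) * g := by group
        _ = b := by rw [e, mul_assoc, ← hgb.eq, inv_mul_cancel_left]
    exact this ▸ Commute.refl b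
  · exact Or.inl (fix g hgb hgp (mul_inv_eq_iff_eq_mul.1 e))
  · refine Or.inr ?_
    have hbg : b * g = 1 := fix (b * g) ((Commute.refl b).mul_left hgb)
      (fun x hx => hx.2.2.mul_left (hgp x hx)) (by
        show b * g * c = c * (b * g)
        calc b * g * c = b * (g * c * g⁻¹) * g := by group
          _ = b * (b * c * b) * g := by rw [e]
          _ = c * (b * g) := by rw [show b * (b * c * b) * g = b * b * (c * (b * g)) by group, hb2, one_mul])
    rw [eq_inv_of_mul_eq_one_right hbg, hP.inv hb]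

end F22

open F22 in
/-- node F22 -/
theorem nodeF22 : NodeF22.{u} := by
  intro G _ _ D _ hP _ d hd hU
  obtain ⟨F, iF, iF', hctx⟩ := exists_ctx hP hd hU
  obtain ⟨C⟩ := hctx d hd
  obtain ⟨H⟩ := exists_host hP C
  obtain ⟨-, -, ht, -, -⟩ := H.main (kernel hP hctx hd H)
  have hcomp : comp D d = D := by
    refine Set.Subset.antisymm Fi22Core20.comp_sub fun x hx => ⟨hx, ?_⟩
    by_cases hc : Commute d x
    · exact Or.inl hc
    · exact Or.inr (common hP hd H hd ⟨hx, hc⟩)
  have htop : Subgroup.closure (comp D d) = ⊤ := by rw [hcomp]; exact hP.hD.2.2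
  let e : ↥(Subgroup.closure (comp D d)) ≃* G := (MulEquiv.subgroupCongr htop).trans Subgroup.topEquiv
  refine FischerExist27.typeM22_of_equiv e ?_ ht
  ext x
  constructor
  · intro hx
    refine ⟨⟨x, htop ▸ Subgroup.mem_top x⟩, ?_, rfl⟩
    show x ∈ comp D d
    rw [hcomp]; exact hx
  · rintro ⟨y, hy, rfl⟩
    exact (hy : (y : G) ∈ comp D d).1

end Cfsg.Agent.Lib.FischerThm
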